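import Mathlib
import Cfsg.Agent.H585.SuRow
import Cfsg.Agent.H965.ASLt

/-!
# `AS2` for exceptional groups: rows with a bound for the centralizer (helper568)

`RowB G q c` : the data of `H585.SuRow.Row` with `|C(y ^ r ^ (a - 1))| ≤ c`; `as2_of`.
-/

set_option autoImplicit false
set_option linter.unusedSectionVars false

namespace Cfsg.Agent.H568.AS

open Subgroup Cfsg Cfsg.Agent.H585.SuRow Cfsg.Agent.H465.SU Cfsg.Agent.H965.SU Cfsg.Agent.H965.AS
open Cfsg.Lie Cfsg.Agent.Nodes.RGDChev Cfsg.Agent.H62.PPChev Cfsg.Agent.H585.SuUntw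
  Cfsg.Agent.H585.SuSel

universe u

/-- the row with a bound for the centralizer of the element of order `r` -/
def RowB (G : Type*) [Group G] (q c : ℕ) : Prop :=
  ∃ (r a : ℕ) (y : G), r.Prime ∧ 7 ≤ r ∧ 1 ≤ a ∧ orderOf y = r ^ a ∧ ¬ r ^ (a + 1) ∣ Nat.card G ∧ SUel r y ∧
    (∃ p f : ℕ, p.Prime ∧ q = p ^ f ∧ ¬ r ∣ f) ∧ Nat.card (centralizer ({y ^ r ^ (a - 1)} : Set G)) ≤ c

theorem RowB.mono {G : Type*} [Group G] {q c d : ℕ} (h : RowB G q c) (hcd : c ≤ d) : RowB G q d := by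
  obtain ⟨r, a, y, h1, h2, h3, h4, h5, h6, h7, h8⟩ := h
  exact ⟨r, a, y, h1, h2, h3, h4, h5, h6, h7, h8.trans hcd⟩

/-- the centralizers of the elements of order `r` if `T` contains a Sylow `r`-subgroup -/
theorem card_cent_le {G : Type*} [Group G] [Finite G] {r a : ℕ} (hr : r.Prime) {T : Subgroup G}
    (hT : r ^ a ∣ Nat.card T) (hG : ¬ r ^ (a + 1) ∣ Nat.card G)
    (hcent : ∀ y ∈ T, orderOf y = r → centralizer {y} ≤ T) {z : G} (hz : orderOf z = r) :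
    Nat.card (centralizer ({z} : Set G)) ≤ Nat.card T := by
  have : Fact r.Prime := ⟨hr⟩
  -- a Sylow subgroup in `T`
  obtain ⟨P0, hP0⟩ := Sylow.exists_subgroup_card_pow_prime (G := T) r hT
  set P1 : Subgroup G := P0.map T.subtype with hP1
  have hc1 : Nat.card P1 = r ^ a := by
    rw [hP1, card_map_of_injective T.subtype_injective, hP0]
  have hfac : (Nat.card G).factorization r = a := by
    have h1 : r ^ a ∣ Nat.card G := hT.trans (card_subgroup_dvd_card T)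
    have h2 := (hr.pow_dvd_iff_le_factorization Nat.card_pos.ne').1 h1
    have h3 : ¬ a + 1 ≤ (Nat.card G).factorization r := fun h =>
      hG ((hr.pow_dvd_iff_le_factorization Nat.card_pos.ne').2 h)
    omega
  let P : Sylow r G := Sylow.ofCard P1 (by rw [hc1, hfac])
  have hPT : (P : Subgroup G) ≤ T := map_subtype_le P0
  -- `z` is in a conjugate
  have hzp : IsPGroup r (zpowers z) := IsPGroup.of_card (n := 1) (by rw [Nat.card_zpowers, hz, pow_one])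
  obtain ⟨Q, hQ⟩ := hzp.exists_le_sylow
  obtain ⟨g, hg⟩ := MulAction.exists_smul_eq G Q P
  have h1 : g * z * g⁻¹ ∈ (P : Subgroup G) := by
    rw [← hg]
    exact ⟨z, hQ (mem_zpowers z), rfl⟩
  have h2 : orderOf (g * z * g⁻¹) = r := by
    rw [← hz]
    exact orderOf_injective (MulAut.conj g).toMonoidHom (MulAut.conj g).injective z
  have h3 := hcent _ (hPT h1) h2
  refine le_trans ?_ (Nat.card_le_card_of_injective _ (inclusion_injective h3))
  refine Nat.card_le_card_of_injective (fun x => ⟨g * x * g⁻¹, ?_⟩) ?_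
  · rw [mem_centralizer_singleton_iff]
    have hx := mem_centralizer_singleton_iff.1 x.2
    calc g * (x : G) * g⁻¹ * (g * z * g⁻¹) = g * (x * z) * g⁻¹ := by group
      _ = g * (z * x) * g⁻¹ := by rw [hx]
      _ = g * z * g⁻¹ * (g * x * g⁻¹) := by group
  · intro x y hxy
    have h4 : g * (x : G) * g⁻¹ = g * y * g⁻¹ := congrArg Subtype.val hxy
    exact Subtype.ext (mul_left_cancel (mul_right_cancel h4))

/-- the order of the power -/
theorem orderOf_pow' {G : Type*} [Group G] {r a : ℕ} (hr : r.Prime) (ha : 1 ≤ a) {y : G} (hy : orderOf y = r ^ a) :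
    orderOf (y ^ r ^ (a - 1)) = r := by
  have h1 : r ^ a = r ^ (a - 1) * r := by
    rw [← pow_succ, Nat.sub_add_cancel ha]
  rw [orderOf_pow_of_dvd (pow_ne_zero _ hr.ne_zero) (by rw [hy]; exact pow_dvd_pow _ (Nat.sub_le _ _)), hy, h1,
    Nat.mul_div_cancel_left _ (pow_pos hr.pos _)]

/-- from `RowE` (one torus) -/
theorem RowB.intro {G : Type*} [Group G] [Finite G] {q : ℕ} {r a : ℕ} {y : G} (hr : r.Prime) (h7 : 7 ≤ r) (ha : 1 ≤ a)
    (hy : orderOf y = r ^ a) (hG : ¬ r ^ (a + 1) ∣ Nat.card G) (hsu : SUel r y)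
    (hf : ∃ p f : ℕ, p.Prime ∧ q = p ^ f ∧ ¬ r ∣ f) {T : Subgroup G} (hT : r ^ a ∣ Nat.card T)
    (hcent : ∀ y ∈ T, orderOf y = r → centralizer {y} ≤ T) : RowB G q (Nat.card T) :=
  ⟨r, a, y, hr, h7, ha, hy, hG, hsu, hf, card_cent_le hr hT hG hcent (orderOf_pow' hr ha hy)⟩

/-- the divisibility of the order of the torus -/
theorem pow_dvd_of {r a d t N : ℕ} (hr : r.Prime) (hrd : ¬ r ∣ d) (h : r ^ a ∣ N) (h2 : N ∣ d * t) : r ^ a ∣ t :=
  Nat.Coprime.dvd_of_dvd_mul_left (Nat.Coprime.pow_left _ ((Nat.Prime.coprime_iff_not_dvd hr).2 hrd)) (h.trans h2)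

section

variable {D : Cfsg.Lie.ChevalleyDatum} {l : ℕ} {M : CoxeterMatrix (Fin l)} (hp : IsType D l M) {K : Type u} [Field K]
  [Fintype K]

include hp

/-- the row from the torus -/
theorem rowB_of [Finite M.Group] {q e : ℕ} (hF : Fintype.card K = q) {N N' d : ℕ} {r a : ℕ} (hr : r.Prime)
    (h7 : 7 ≤ r) (ha : 1 ≤ a) (ho : orderOf (q : ZMod r) = e) (haN : r ^ a ∣ N) (haN' : ¬ r ^ (a + 1) ∣ N)
    (hdim : D.rank + D.nroots + r ^ (a - 1) < r ^ a) (hf : ∃ p f : ℕ, p.Prime ∧ q = p ^ f ∧ ¬ r ∣ f)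
    {T : Subgroup ↥(D.group K)} (hc : IsCyclic ↥T)
    (hcent : ∀ y ∈ T, orderOf y = r → Subgroup.centralizer {y} ≤ T) (hN' : ¬ r ∣ N')
    (h1 : Nat.card ↥T ∣ N' * N) (h2 : N' * N ∣ d * Nat.card ↥T) (hrd : ¬ r ∣ d) (hqN : q.Coprime (N' * N))
    (hm : ∀ i : Fin l, ¬ e ∣ num D i) : RowB ↥(D.group K) q (Nat.card T) := by
  obtain ⟨p, hpc⟩ := CharP.exists K
  have hq1 : 1 ≤ q := by rw [← hF]; exact Fintype.card_pos
  have haT : r ^ a ∣ Nat.card T := pow_dvd_of hr hrd (haN.mul_left _) h2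
  obtain ⟨y, hy1, hy2, hy3⟩ := Cfsg.Agent.H585.SuUntw.row hp M.toCoxeterSystem p hr (by omega) hc hcent h1 h2 hrd ha
    (haN.mul_left _)
    (fun h => haN' (Nat.Coprime.dvd_of_dvd_mul_left
      (Nat.Coprime.pow_left _ ((Nat.Prime.coprime_iff_not_dvd hr).2 hN')) h))
    (prime_not_dvd hF p hqN) hdim (fun i h => hm i (by
      rw [hF, dvd_pow_sub_one hq1, ho] at h
      exact h))
  exact RowB.intro hr h7 ha hy1 hy2 hy3 hf haT hcent

/-- the row for small fields -/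
theorem rowB_small_of [Finite M.Group] {q e : ℕ} (e0 : ℕ) (hF : Fintype.card K = q) {N N' d : ℕ} {r : ℕ} (hr : r.Prime)
    (h7 : 7 ≤ r) (ho : orderOf (q : ZMod r) = e) (haN : r ∣ N) (haN' : ¬ r ^ 2 ∣ N)
    (hf : ∃ p f : ℕ, p.Prime ∧ q = p ^ f ∧ ¬ r ∣ f) {T : Subgroup ↥(D.group K)} (hc : IsCyclic ↥T)
    (hcent : ∀ y ∈ T, orderOf y = r → Subgroup.centralizer {y} ≤ T) (hN' : ¬ r ∣ N')
    (h1 : Nat.card ↥T ∣ N' * N) (h2 : N' * N ∣ d * Nat.card ↥T) (hrd : ¬ r ∣ d) (hqN : q.Coprime (N' * N))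
    (hm : ∀ i : Fin l, ¬ e ∣ num D i) {L : List (ℕ × ℕ)} {m : ℕ} (hm0 : m * Nat.card ↥(D.group K) = pp L)
    (hprime : ∀ x ∈ L, x.1.Prime) (hnd : (L.map Prod.fst).Nodup) {p : ℕ} (hp' : p.Prime) (hpq : p ∣ q)
    (hchk : Chk r p L) : RowB ↥(D.group K) q (Nat.card T) := by
  obtain ⟨p', hpc⟩ := CharP.exists K
  have hpp : p' = p := by
    obtain ⟨f, hp'', hf⟩ := FiniteField.card K p'
    rw [hF] at hf
    rw [hf] at hpq
    exact ((Nat.prime_dvd_prime_iff_eq hp' hp'').1 (hp'.dvd_of_dvd_pow hpq)).symm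
  subst hpp
  have hq1 : 1 ≤ q := by rw [← hF]; exact Fintype.card_pos
  have haT : r ^ 1 ∣ Nat.card T := pow_dvd_of hr hrd (by rw [pow_one]; exact haN.mul_left _) h2
  obtain ⟨y, hy1, hy2, hy3⟩ := row_small hp M.toCoxeterSystem p' hr hc hcent h1 h2 hrd (haN.mul_left _)
    (fun h => haN' (Nat.Coprime.dvd_of_dvd_mul_left
      (Nat.Coprime.pow_left _ ((Nat.Prime.coprime_iff_not_dvd hr).2 hN')) h))
    (prime_not_dvd hF p' hqN) (fun i h => hm i (by
      rw [hF, dvd_pow_sub_one hq1, ho] at h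
      exact h)) (arith_of_list hr (hm0 ▸ Dvd.intro_left _ rfl) hprime hnd hchk)
  exact RowB.intro hr h7 le_rfl hy1 hy2 hy3 hf haT hcent

end

/-- **`AS2` from the row.** -/
theorem as2_of {G : Type u} [Group G] [Finite G] [IsSimpleGroup G] (hna : ¬ IsMulCommutative G) {q c b : ℕ}
    (h : RowB G q c)
    (hout : ∀ r p f : ℕ, r.Prime → 7 ≤ r → p.Prime → q = p ^ f → ¬ r ∣ f → ¬ r ∣ Nat.card (Cfsg.Out G))
    (hb : ∀ H : Subgroup G, H ≠ ⊤ → b ≤ H.index) (hlt : 2 * c < 7 * b) : AS2 G := by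
  obtain ⟨r, a, y, hr, h7, ha, hy, hG, hsu, ⟨p, f, hp, hq, hf⟩, hc⟩ := h
  refine AS2.of_lt hna (p := r) (a := a) (y := y) ⟨hr, by omega, ha, hy, hsu, hG, ?_⟩ (by omega) hc hb ?_
  · exact inner_of_card hr (hout r p f hr h7 hp hq hf)
  · refine lt_of_lt_of_le hlt (Nat.mul_le_mul_right _ (h7.trans ?_))
    calc r = r ^ 1 := (pow_one r).symm
      _ ≤ r ^ a := Nat.pow_le_pow_right hr.pos ha

theorem AS2.of_equiv {K L : Type*} [Group K] [Group L] (e : K ≃* L) (h : AS2 L) : AS2 K := h.congr e.symm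

/-- a prime `r ≥ 7` does not divide `m f`, `m` a number with prime divisors 2, 3 -/
theorem not_dvd_mul {r m f : ℕ} (hr : r.Prime) (h7 : 7 ≤ r) (hf : ¬ r ∣ f) (hm0 : 0 < m) (hm : m ≤ 6) : ¬ r ∣ m * f := by
  intro h
  rcases hr.dvd_mul.1 h with h | h
  · have := Nat.le_of_dvd hm0 h
    omega
  · exact hf h

end Cfsg.Agent.H568.AS
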